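import Cfsg.Agent.H56.J4U.DuadType
import Cfsg.Agent.H93.J4U.SextSet

/-!
The conjugates of `V` at the two sextets of the configuration from the one at the sextet `698`.
-/

set_option autoImplicit false
set_option maxRecDepth 100000
set_option linter.style.haveILetI false

namespace Cfsg.Agent.H56.J4U

open Cfsg Cfsg.Agent.Golay Cfsg.Agent.H56.J4 Cfsg.Agent.H38.JFour Cfsg.Agent.H93.J4U
open Cfsg.Agent.H93.J4U.Tab (aS groupT)
open Subgroup

universe u

variable {G : Type u} [Group G] [Finite G]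

/-- A conjugate of `V` at the sextet `698` holding its group. -/
def HexBase (D : Uni G) : Prop :=
  ∃ g : G, Commute g (D.F aS) ∧ D.F aS ∈ D.VC g ∧
    (∀ T ∈ groupT, D.φ (H93.J4U.el T) ∈ D.VC g) ∧
    ∀ v ∈ D.V, v ∈ D.VC g → v = 1 ∨ v = D.F aS

/-- moves `698` to `zaS` -/
def toA : ℕ := 650584323790482353024699566521360499

/-- moves `698` to `zbS` -/
def toB : ℕ := 191067200833581729041710934949254568

theorem el_eq_el {T : ℕ} (h : inM24 T = true) : H93.J4U.el T = el T :=
  Subtype.ext (by rw [H93.J4U.el_coe h, el_coe (val_of h)])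

/-- the check behind a transport -/
def moveOK (R a : ℕ) (L : List ℕ) : Bool :=
  img R aS == a && L.all fun S => inM24 S && groupT.any fun T =>
    (List.range 24).all fun i => app R (app T i) == app S (app R i)

theorem transport {D : Uni G} (hb : HexBase D) {R a : ℕ} (hR : inM24 R = true) {L : List ℕ}
    (hL : moveOK R a L = true) : HexAt D a L := by
  obtain ⟨g, hg, hF, hT, hV⟩ := hb
  simp only [moveOK, Bool.and_eq_true, beq_iff_eq, List.all_eq_true, List.any_eq_true, List.mem_range] at hL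
  obtain ⟨hi, hLL⟩ := hL
  have hc := (D.conj_F (el R) (validT_of_inM24 hR) (el_coe (val_of hR)).symm
    (isSext_ev H93.J4U.Tab.half_facts.1).1).2
  rw [hi] at hc
  set k := D.φ (el R) with hk
  have hVC : ∀ w, w ∈ D.VC (k * g * k⁻¹) ↔ k⁻¹ * w * k ∈ D.VC g := fun w => by
    rw [D.mem_VC, D.mem_VC,
      show (k * g * k⁻¹)⁻¹ * w * (k * g * k⁻¹) = k * (g⁻¹ * (k⁻¹ * w * k) * g) * k⁻¹ by group]
    exact (mem_normalizer_iff.1 (D.φ_mem_normalizer (el R)) _).symm
  refine ⟨k * g * k⁻¹, ?_, ?_, ?_, ?_⟩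
  · rw [← hc]
    have := hg.map (MulAut.conj k)
    simpa only [MulAut.conj_apply] using this
  · rw [hVC, ← hc, show k⁻¹ * (k * D.F aS * k⁻¹) * k = D.F aS by group]; exact hF
  · intro S hS
    obtain ⟨hSv, T, hTg, hTe⟩ := hLL S hS
    have hTv := H93.J4U.Tab.group_mem hTg
    have he : el R * el T = el S * el R := by
      have := el_word (l := [R, T]) (l' := [S, R]) (by simp [val_of hR, val_of hTv])
        (by simp [val_of hR, val_of hSv]) (by
          simp only [List.all_eq_true, List.mem_range, beq_iff_eq, wordApp, List.foldr_cons, List.foldr_nil]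
          intro i hi'
          exact hTe i hi')
      simpa using this
    rw [hVC, hk, ← map_inv, ← map_mul, ← map_mul, mul_assoc, ← he, inv_mul_cancel_left, ← el_eq_el hTv]
    exact hT T hTg
  · intro v hv hvm
    rw [hVC] at hvm
    have hv' : k⁻¹ * v * k ∈ D.V := by
      have := (mem_normalizer_iff.1 (inv_mem (D.φ_mem_normalizer (el R))) v).1 hv
      rwa [inv_inv] at this
    rcases hV _ hv' hvm with e | e
    · left
      rw [show v = k * (k⁻¹ * v * k) * k⁻¹ by group, e]; group
    · right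
      rw [show v = k * (k⁻¹ * v * k) * k⁻¹ by group, e, hc]

/-- the two sextets of the configuration -/
theorem hex_pair {D : Uni G} (hb : HexBase D) : HexAt D zaS listA ∧ HexAt D zbS listB :=
  ⟨transport hb (R := toA) (by decide +kernel) (by decide +kernel),
    transport hb (R := toB) (by decide +kernel) (by decide +kernel)⟩

open scoped Pointwise in
/-- **The second long relator** from the conjugate of `V` at the sextet `698`. -/
theorem relTwo_of_base {D : Uni G}
    (hgood : ∀ σ : ↥Cfsg.M24, σ * σ = 1 → (∀ p, (σ : Equiv.Perm GolayPt) p ≠ p) → ¬ IsConj D.z (D.φ σ))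
    (hU : H48.J4U.HexHyp D.V D.F D.φ) {t : G} (ht : H48.J4U.IsTrioInv D.z D.V D.F D.φ t)
    (hb : HexBase D) :
    ((D.φ gY * D.φ gX * D.φ gY * D.φ gX * D.φ gY * D.φ gX * D.φ gY) ^ 3 * t *
      (((D.φ gX * D.φ gY) ^ 3 * D.φ gY * (D.φ gX * D.φ gY) ^ 6 * D.φ gY)⁻¹ * t *
        ((D.φ gX * D.φ gY) ^ 3 * D.φ gY * (D.φ gX * D.φ gY) ^ 6 * D.φ gY))) ^ 2 = 1 :=
  relTwo_of_hex D hgood hU ht (hex_pair hb).1 (hex_pair hb).2

end Cfsg.Agent.H56.J4U
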