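import Cfsg.Agent.H56.J4.Setup

/-!
Tables for the configuration of the second long relator: three trios `u1, u0, u2` and the elements moving them.
-/

set_option autoImplicit false
set_option maxRecDepth 100000

namespace Cfsg.Agent.H56.J4U

open Cfsg Cfsg.Agent.Golay Cfsg.Agent.H56.J4

/-- translation fixing the first octad -/
def qaT : ℕ := 186055755686410406487657887001320480
/-- translation fixing the second octad -/
def qbT : ℕ := 975260157811037623190797458966940020
/-- the square of `(y x y x y x y)^3` -/
def eT : ℕ := 195563133988597549472494045976173940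
/-- `(y x y x y x y)^3` -/
def sT : ℕ := 681987230265392645542641450498625070
/-- an element fixing `u0, u1` and `zb` -/
def kaT : ℕ := 502583317271537040940045313101177184
/-- an element fixing `u0, u2` and `za` -/
def kbT : ℕ := 291509573750059063264110058586430957
/-- moves `u1` to `ua` -/
def gT : ℕ := 221299114426065211125567136358469201
/-- moves `u1` to `uc` -/
def gcT : ℕ := 802836244516811144954118654622024242
/-- `(x y)^3 y (x y)^6 y` -/
def bT : ℕ := 545243272186539788811834302082326996
/-- inverse of `gT` -/
def giT : ℕ := 299102358436641259454859710889529937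
/-- trio u0 -/
def u0K : ℕ := 2527256961725410724355
/-- trio u2 -/
def u2K : ℕ := 2527256933334604848195
/-- trio u3 -/
def u3K : ℕ := 2527256944080662713920
/-- trio ua -/
def uaK : ℕ := 2371932323435100129795
/-- trio uc -/
def ucK : ℕ := 2539040629448064256515
/-- trio ud -/
def udK : ℕ := 4134406939324772357520
/-- the sextet element of the first line -/
def zaS : ℕ := 3297
/-- the sextet element of the second line -/
def zbS : ℕ := 4023

/-- the element of `M24` of a table -/
noncomputable def el (T : ℕ) : M24 :=
  open scoped Classical in if h : mkPerm T ∈ M24 then ⟨mkPerm T, h⟩ else 1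

theorem el_coe {T : ℕ} (h : Val T) : ((el T : M24) : Equiv.Perm GolayPt) = mkPerm T := by
  rw [el, dif_pos h.2]

theorem val_of {T : ℕ} (h : inM24 T = true) : Val T :=
  ⟨validT_of_inM24 h, mem_M24_of_inM24 h⟩

end Cfsg.Agent.H56.J4U
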