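import Cfsg.Agent.H56.J4U.RelTwoAlg
import Cfsg.Agent.H56.J4U.RelTwoData

/-!
The second long relator of the Janko-four presentation holds in every group with a homomorphic image of `M24` and an
involution `t` centralised by a trio stabiliser, given the two lines of sextet elements `za, zb` of the configuration.
-/

set_option autoImplicit false
set_option maxRecDepth 100000

namespace Cfsg.Agent.H56.J4U

open Cfsg Cfsg.Agent.Golay Cfsg.Agent.H56.J4
open Cfsg.Agent.H56.J4.Up (k0)
open scoped Pointwise

variable {G : Type*} [Group G] {φ : M24 →* G} {t za zb : G}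

/-- pointwise test of a product of tables -/
def mulOK (A B C : ℕ) : Bool := (List.range 24).all fun i => app A (app B i) == app C i

theorem el_mul {A B C : ℕ} (hA : Val A) (hB : Val B) (hC : Val C) (h : mulOK A B C = true) :
    el A * el B = el C := by
  apply Subtype.ext
  rw [Subgroup.coe_mul, el_coe hA, el_coe hB, el_coe hC]
  refine Equiv.ext fun p => ?_
  obtain ⟨i, hi, rfl⟩ : ∃ i < 24, pt i = p := ⟨idx p, idx_lt p, pt_idx p⟩
  simp only [mulOK, List.all_eq_true, List.mem_range, beq_iff_eq] at h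
  rw [Equiv.Perm.mul_apply, mkPerm_pt hB.1 hi, mkPerm_pt hA.1 ((validT_bijective hB.1).2 i hi),
    mkPerm_pt hC.1 hi, h i hi]

/-- conjugation moves the involutions of trios -/
theorem tK_el (hC : Cen φ t S0) {T : ℕ} (hT : Val T) (K : ℕ) :
    φ (el T) * tK φ t S0 K * (φ (el T))⁻¹ = tK φ t S0 (imgK T K) := by
  rw [tK, tK, kSet_imgK hT.1, ← el_coe hT, tau_smul hC]

theorem tK_base (hC : Cen φ t S0) : tK φ t S0 k0 = t := by
  have := tau_base (t := t) hC (1 : M24)
  rw [Subgroup.coe_one, one_smul, map_one, one_mul, inv_one, mul_one] at this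
  exact this

theorem commute_el (hC : Cen φ t S0) {T K : ℕ} (hT : Val T) (h : imgK T K = K) :
    Commute (φ (el T)) (tK φ t S0 K) := by
  have := tK_el (φ := φ) (t := t) hC hT K
  rw [h] at this
  exact mul_inv_eq_iff_eq_mul.1 this

theorem commute_el_base (hC : Cen φ t S0) {T : ℕ} (hT : Val T) (h : imgK T k0 = k0) :
    Commute (φ (el T)) t := by
  have := commute_el (φ := φ) (t := t) hC hT h
  rwa [tK_base hC] at this

theorem commute_of_sq {a b : G} (ha : a * a = 1) (hb : b * b = 1) (hab : a * b * (a * b) = 1) :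
    Commute a b := by
  have h1 : (a * b)⁻¹ = a * b := inv_eq_of_mul_eq_one_right hab
  rw [mul_inv_rev, inv_eq_self_of_mul ha, inv_eq_self_of_mul hb] at h1
  exact h1.symm

theorem el_one : el idN = 1 := Subtype.ext (by rw [el_coe val_idN, idN_spec.2]; rfl)

/-- value of a word of tables at a position -/
def wordApp (l : List ℕ) (i : ℕ) : ℕ := l.foldr (fun T j => app T j) i

theorem prod_el_pt : ∀ {l : List ℕ}, (∀ T ∈ l, Val T) → ∀ i < 24,
    wordApp l i < 24 ∧ ((l.map el).prod : M24).1 (pt i) = pt (wordApp l i)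
  | [], _, i, hi => ⟨hi, by simp [wordApp]⟩
  | T :: l, h, i, hi => by
    obtain ⟨h1, h2⟩ := prod_el_pt (fun S hS => h S (List.mem_cons_of_mem _ hS)) i hi
    have hT := h T List.mem_cons_self
    refine ⟨(validT_bijective hT.1).2 _ h1, ?_⟩
    simp only [List.map_cons, List.prod_cons, Subgroup.coe_mul, Equiv.Perm.mul_apply, h2, el_coe hT]
    exact mkPerm_pt hT.1 h1

theorem el_word {l l' : List ℕ} (h : ∀ T ∈ l, Val T) (h' : ∀ T ∈ l', Val T)
    (he : ((List.range 24).all fun i => wordApp l i == wordApp l' i) = true) :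
    (l.map el).prod = (l'.map el).prod := by
  apply Subtype.ext
  refine Equiv.ext fun p => ?_
  obtain ⟨i, hi, rfl⟩ : ∃ i < 24, pt i = p := ⟨idx p, idx_lt p, pt_idx p⟩
  simp only [List.all_eq_true, List.mem_range, beq_iff_eq] at he
  rw [(prod_el_pt h i hi).2, (prod_el_pt h' i hi).2, he i hi]

/-- The facts about the configuration used by the second relator. -/
structure Hyp (φ : M24 →* G) (t za zb : G) : Prop where
  cen : Cen φ t S0
  inj : Function.Injective φ
  za_sq : za * za = 1
  zb_sq : zb * zb = 1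
  za_zb : Commute za zb
  za_t : Commute za t
  zb_t : ¬ Commute zb t
  zb_tb : Commute zb (tK φ t S0 u2K)
  za_tb : ¬ Commute za (tK φ t S0 u2K)
  za_fix : Commute (φ (el kbT)) za
  zb_fix : Commute (φ (el kaT)) zb
  qb_fix : Commute (φ (el qbT)) zb
  comm_a : ∃ σ, (σ = 1 ∨ σ = el qaT ∨ σ = el qbT ∨ σ = el eT) ∧ φ σ = t * zb * t * zb
  comm_b : ∃ σ, (σ = 1 ∨ σ = el qaT ∨ σ = el qbT ∨ σ = el eT) ∧
    φ σ = za * tK φ t S0 u2K * za * tK φ t S0 u2K
  core_comm : za * t * (zb * tK φ t S0 u2K) * (za * t * (zb * tK φ t S0 u2K)) = 1 ∨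
    za * t * (zb * tK φ t S0 u2K) * (za * t * (zb * tK φ t S0 u2K)) = tK φ t S0 u0K
  mid_ne : tK φ t S0 u0K ≠ 1
  line_b : tK φ t S0 u3K = tK φ t S0 u0K * tK φ t S0 u2K
  line_d : tK φ t S0 udK = tK φ t S0 u0K * tK φ t S0 uaK
  line_c : tK φ t S0 ucK = t * tK φ t S0 uaK
  mid_t : Commute (tK φ t S0 u0K) t

theorem val_qa : Val qaT := val_of (by decide +kernel)
theorem val_qb : Val qbT := val_of (by decide +kernel)
theorem val_e : Val eT := val_of (by decide +kernel)
theorem val_s : Val sT := val_of (by decide +kernel)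
theorem val_ka : Val kaT := val_of (by decide +kernel)
theorem val_kb : Val kbT := val_of (by decide +kernel)
theorem val_g : Val gT := val_of (by decide +kernel)
theorem val_gc : Val gcT := val_of (by decide +kernel)
theorem val_gi : Val giT := val_of (by decide +kernel)
theorem val_b : Val bT := val_of (by decide +kernel)

theorem qb_qa : el qbT * el qaT = el eT := el_mul val_qb val_qa val_e (by decide +kernel)
theorem e_sq : el eT * el eT = 1 := by
  rw [el_mul val_e val_e val_idN (by decide +kernel), el_one]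
theorem s_sq : el sT * el sT = el eT := el_mul val_s val_s val_e (by decide +kernel)

/-- two elements with different products do not commute -/
theorem ne_commute {A B : ℕ} (hA : Val A) (hB : Val B)
    (h : (List.range 24).all (fun i => app A (app B i) == app B (app A i)) = false) :
    ¬ Commute (el A) (el B) := by
  intro hc
  have e := congrArg (fun m : M24 => (m : Equiv.Perm GolayPt)) hc.eq
  simp only [Subgroup.coe_mul, el_coe hA, el_coe hB] at e
  have hf : (List.range 24).all (fun i => app A (app B i) == app B (app A i)) = true := by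
    simp only [List.all_eq_true, List.mem_range, beq_iff_eq]
    intro i hi
    have hp := congrFun (congrArg DFunLike.coe e) (pt i)
    rw [Equiv.Perm.mul_apply, Equiv.Perm.mul_apply, mkPerm_pt hB.1 hi,
      mkPerm_pt hA.1 ((validT_bijective hB.1).2 i hi), mkPerm_pt hA.1 hi,
      mkPerm_pt hB.1 ((validT_bijective hA.1).2 i hi)] at hp
    exact (pt_inj ((validT_bijective hA.1).2 _ ((validT_bijective hB.1).2 i hi))
      ((validT_bijective hB.1).2 _ ((validT_bijective hA.1).2 i hi))).1 hp
  rw [h] at hf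
  exact Bool.noConfusion hf

theorem val_x : Val Up.xTi := val_of (by decide +kernel)
theorem val_y : Val Up.yTi := val_of (by decide +kernel)

theorem el_x : el Up.xTi = gX :=
  Subtype.ext (by rw [el_coe val_x, gX, ← inv_inv (mkPerm Up.xTi)]; exact inv_eq_iff_eq_inv.2 gv_xTi)

theorem el_y : el Up.yTi = gY :=
  Subtype.ext (by rw [el_coe val_y, gY, ← inv_inv (mkPerm Up.yTi)]; exact inv_eq_iff_eq_inv.2 gv_yTi)

theorem s_word : (gY * gX * gY * gX * gY * gX * gY) ^ 3 = el sT := by
  have h := el_word
    (l := [Up.yTi, Up.xTi, Up.yTi, Up.xTi, Up.yTi, Up.xTi, Up.yTi, Up.yTi, Up.xTi, Up.yTi, Up.xTi,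
      Up.yTi, Up.xTi, Up.yTi, Up.yTi, Up.xTi, Up.yTi, Up.xTi, Up.yTi, Up.xTi, Up.yTi])
    (l' := [sT]) (by simp [val_x, val_y]) (by simp [val_s]) (by decide +kernel)
  simp only [List.map_cons, List.map_nil, List.prod_cons, List.prod_nil, mul_one, el_x, el_y] at h
  rw [← h]
  simp only [pow_succ, pow_zero, one_mul, mul_assoc]

theorem b_word : (gX * gY) ^ 3 * gY * (gX * gY) ^ 6 * gY = el bT := by
  have h := el_word
    (l := [Up.xTi, Up.yTi, Up.xTi, Up.yTi, Up.xTi, Up.yTi, Up.yTi, Up.xTi, Up.yTi, Up.xTi, Up.yTi,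
      Up.xTi, Up.yTi, Up.xTi, Up.yTi, Up.xTi, Up.yTi, Up.xTi, Up.yTi, Up.yTi])
    (l' := [bT]) (by simp [val_x, val_y]) (by simp [val_b]) (by decide +kernel)
  simp only [List.map_cons, List.map_nil, List.prod_cons, List.prod_nil, mul_one, el_x, el_y] at h
  rw [← h]
  simp only [pow_succ, pow_zero, one_mul, mul_assoc]

namespace Hyp

variable (H : Hyp φ t za zb)
include H

theorem t_sq : t * t = 1 := H.cen.1

theorem qa_eq : φ (el qaT) = t * zb * t * zb := by
  obtain ⟨σ, hσ, e⟩ := H.comm_a
  have hk : Commute (φ (el kaT)) (t * zb * t * zb) := by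
    have h1 := commute_el_base H.cen val_ka (by decide +kernel)
    exact ((h1.mul_right H.zb_fix).mul_right h1).mul_right H.zb_fix
  have hk' : Commute (el kaT) σ := H.inj (by rw [map_mul, map_mul, e]; exact hk.eq)
  rcases hσ with rfl | rfl | rfl | rfl
  · exfalso
    rw [map_one] at e
    exact H.zb_t (commute_of_sq H.zb_sq H.t_sq (by
      calc zb * t * (zb * t) = (t⁻¹ * (t * zb * t * zb) * t) := by group
        _ = 1 := by rw [← e]; group))
  · exact e
  · exact absurd hk' (ne_commute val_ka val_qb (by decide +kernel))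
  · exact absurd hk' (ne_commute val_ka val_e (by decide +kernel))

theorem qb_eq : φ (el qbT) = za * tK φ t S0 u2K * za * tK φ t S0 u2K := by
  obtain ⟨σ, hσ, e⟩ := H.comm_b
  have hk : Commute (φ (el kbT)) (za * tK φ t S0 u2K * za * tK φ t S0 u2K) := by
    have h1 := commute_el (t := t) H.cen val_kb (K := u2K) (by decide +kernel)
    exact ((H.za_fix.mul_right h1).mul_right H.za_fix).mul_right h1
  have hk' : Commute (el kbT) σ := H.inj (by rw [map_mul, map_mul, e]; exact hk.eq)
  rcases hσ with rfl | rfl | rfl | rfl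
  · exfalso
    rw [map_one] at e
    exact H.za_tb (commute_of_sq H.za_sq (tau_sq H.cen _) (by rw [← mul_assoc]; exact e.symm))
  · exact absurd hk' (ne_commute val_kb val_qa (by decide +kernel))
  · exact e
  · exact absurd hk' (ne_commute val_kb val_e (by decide +kernel))

theorem square_cases :
    t * tK φ t S0 u2K * (t * tK φ t S0 u2K) = φ (el eT) ∨
      t * tK φ t S0 u2K * (t * tK φ t S0 u2K) = tK φ t S0 u0K * φ (el eT) := by
  rw [← qb_qa, map_mul]
  refine sq_cases H.za_sq H.zb_sq H.t_sq (tau_sq H.cen _) H.za_zb H.za_t H.zb_tb H.qa_eq H.qb_eq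
    (commute_el H.cen val_qa (by decide +kernel)) (commute_el_base H.cen val_qb (by decide +kernel))
    (commute_el H.cen val_qb (by decide +kernel)) H.qb_fix ?_ H.core_comm
  rw [← map_mul, qb_qa, ← map_mul, e_sq, map_one]

omit H in
/-- transport of the configuration by an element fixing the middle and the second end -/
theorem square_conj (hC : Cen φ t S0) {T K : ℕ} (hT : Val T) (h2 : imgK T u2K = u2K)
    (h1 : imgK T k0 = K) {x : G}
    (hx : t * tK φ t S0 u2K * (t * tK φ t S0 u2K) = x) :
    tK φ t S0 K * tK φ t S0 u2K * (tK φ t S0 K * tK φ t S0 u2K) =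
      φ (el T) * x * (φ (el T))⁻¹ := by
  have ea := tK_el (φ := φ) (t := t) hC hT k0
  have eb := tK_el (φ := φ) (t := t) hC hT u2K
  rw [h1, tK_base hC] at ea
  rw [h2] at eb
  rw [← ea, ← hx]
  nth_rewrite 1 2 [← eb]
  group

theorem square_eq :
    t * tK φ t S0 u2K * (t * tK φ t S0 u2K) = tK φ t S0 u0K * φ (el eT) := by
  refine H.square_cases.resolve_left fun hx => H.mid_ne ?_
  have hg := square_conj H.cen val_g (K := uaK) (by decide +kernel) (by decide +kernel) hx
  have hgc := square_conj H.cen val_gc (K := ucK) (by decide +kernel) (by decide +kernel) hx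
  have hta := tau_sq (φ := φ) (t := t) H.cen (kSet uaK)
  have htc := tau_sq (φ := φ) (t := t) H.cen (kSet ucK)
  have hpe : el gcT * el eT * (el gcT)⁻¹ = el eT * (el gT * el eT * (el gT)⁻¹) := by
    have hgi : el gT * el giT = 1 := by
      have := el_word (l := [gT, giT]) (l' := [])
        (by simp [val_g, val_gi]) (by simp) (by decide +kernel)
      simpa using this
    have hw := el_word (l := [gcT, eT]) (l' := [eT, gT, eT, giT, gcT])
      (by simp [val_gc, val_e]) (by simp [val_gc, val_e, val_g, val_gi]) (by decide +kernel)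
    simp only [List.map_cons, List.map_nil, List.prod_cons, List.prod_nil, mul_one] at hw
    rw [eq_inv_of_mul_eq_one_right hgi] at hw
    rw [hw]
    group
  rw [← map_inv, ← map_mul, ← map_mul] at hg hgc
  rw [hpe, map_mul] at hgc
  change tK φ t S0 uaK * tK φ t S0 uaK = 1 at hta
  rw [H.line_c] at hgc
  refine not_plain hta (tau_sq H.cen _) ?_ (by rw [← map_mul, e_sq, map_one]) hx hg hgc ?_
  · refine commute_of_sq H.t_sq hta ?_
    rw [← H.line_c]; exact htc
  · have h := tK_el (φ := φ) (t := t) H.cen val_e uaK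
    rw [show imgK eT uaK = udK by decide +kernel, H.line_d] at h
    rw [← h, inv_eq_self_of_mul (by rw [← map_mul, e_sq, map_one])]

/-- the second long relator -/
theorem relTwo :
    (φ (el sT) * t * ((φ (el bT))⁻¹ * t * φ (el bT))) ^ 2 = 1 := by
  have hb : (φ (el bT))⁻¹ * t * φ (el bT) = tK φ t S0 u2K := by
    have h := tK_el (φ := φ) (t := t) H.cen val_b u2K
    rw [show imgK bT u2K = k0 by decide +kernel, tK_base H.cen] at h
    calc (φ (el bT))⁻¹ * t * φ (el bT)
        = (φ (el bT))⁻¹ * (φ (el bT) * tK φ t S0 u2K * (φ (el bT))⁻¹) * φ (el bT) := by rw [h]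
      _ = tK φ t S0 u2K := by group
  rw [hb]
  refine relator (tau_sq H.cen (kSet u0K)) (e := φ (el eT)) (by rw [← map_mul, e_sq, map_one])
    (by rw [← map_mul, s_sq]) (commute_el_base H.cen val_s (by decide +kernel)) ?_ H.mid_t
    (commute_el_base H.cen val_e (by decide +kernel)) (commute_el H.cen val_e (by decide +kernel))
    H.square_eq
  have h := tK_el (φ := φ) (t := t) H.cen val_s u2K
  rw [show imgK sT u2K = u3K by decide +kernel, H.line_b] at h
  exact h

/-- the second long relator as a word in the images of the generators -/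
theorem relTwo_word :
    ((φ gY * φ gX * φ gY * φ gX * φ gY * φ gX * φ gY) ^ 3 * t *
      (((φ gX * φ gY) ^ 3 * φ gY * (φ gX * φ gY) ^ 6 * φ gY)⁻¹ * t *
        ((φ gX * φ gY) ^ 3 * φ gY * (φ gX * φ gY) ^ 6 * φ gY))) ^ 2 = 1 := by
  simp only [← map_mul, ← map_pow, s_word, b_word]
  exact H.relTwo

end Hyp

end Cfsg.Agent.H56.J4U
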