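import Cfsg.Agent.H56.J4U.RelTwoUni
import Cfsg.Agent.H99.J4U.RelOne

/-!
A sextet times a trio involution of a line through it lies outside the class of `z`; with this, the second long
relator needs only the conjugates of `V` at the two sextets.
-/

set_option autoImplicit false
set_option maxRecDepth 100000
set_option linter.style.haveILetI false

namespace Cfsg.Agent.H56.J4U

open Cfsg Cfsg.Agent.Golay Cfsg.Agent.H56.J4 Cfsg.Agent.H38.JFour Cfsg.Agent.H93.J4U
open Subgroup H98.JFour H43.JFour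
open Cfsg.Agent.H56.J4.Up (k0)
open Cfsg.Agent.H48.J4U (HexHyp IsTrioInv)
open Cfsg.Agent.H99.J4U (p0 p1 p2 uT cT lT mM mB)
open scoped Pointwise

universe u

variable {G : Type u} [Group G] [Finite G] (D : Uni G)

/-- An element of order three, its central involution `a` and another conjugate `q` of `z` centralised by it,
in one conjugate of `V`: `a q` is outside the class of `z`. -/
theorem TT_of_central {g l a x q : G} (hl1 : l ≠ 1) (hxl : x * l * x⁻¹ ∈ D.c.P)
    (hxa : x * a * x⁻¹ = D.c.z) (ha : a ∈ D.VC g) (hq : q ∈ D.VC g) (hql : l * q = q * l)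
    (hqz : IsConj D.z q) (hne : q ≠ a) : D.TT (a * q) := by
  obtain ⟨y, hyN, hyP, hya⟩ := H99.J4U.align D.h hl1 (D.mem_VC.1 ha) hxl hxa
  have hyV : y * q * y⁻¹ ∈ D.h.V := by
    have h1 := (mem_normalizer_iff.1 hyN (g⁻¹ * q * g)).1 (D.mem_VC.1 hq)
    rwa [show y * g * (g⁻¹ * q * g) * (y * g)⁻¹ = y * q * y⁻¹ by group] at h1
  have hr : D.c.z * (y * q * y⁻¹) ∈ D.h.rest :=
    H99.J4U.z_mul_rest D.h D.S.hF
      (H99.J4U.mem_E5_of_comm D.h hyP (fun e => hl1 (conj_eq_one_iff.1 e)) hyV
        (H99.J4U.conj_commute hql))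
      (hqz.trans (isConj_iff.2 ⟨y, rfl⟩))
      (fun e => hne (mul_left_cancel (mul_right_cancel (e.trans hya.symm))))
  obtain ⟨s, hs, he⟩ := D.exists_F (D.h.rest_inv.sub hr)
  have hd : D.TT (D.c.z * (y * q * y⁻¹)) :=
    he ▸ (D.F_TT hs).2 ((D.S.F_rest hs).1 (by rw [← he] at hr; exact hr))
  have := TT_conj (D := D) y hd
  rwa [← hya, show y⁻¹ * (y * a * y⁻¹ * (y * q * y⁻¹)) * y = a * q by group] at this

variable (hgood : ∀ σ : ↥Cfsg.M24, σ * σ = 1 → (∀ p, (σ : Equiv.Perm GolayPt) p ≠ p) →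
  ¬ IsConj D.z (D.φ σ))
variable (hU : HexHyp D.V D.F D.φ) {t : G} (ht : IsTrioInv D.z D.V D.F D.φ t)

include hgood hU ht in
/-- The sextet `1463` times each involution of its line is outside the class of `z`. -/
theorem TT_line : D.TT (D.F 1463 * t) ∧ D.TT (D.F 1463 * tK D.φ t S0 uaK) ∧
    D.TT (D.F 1463 * tK D.φ t S0 ucK) := by
  haveI := D.simple
  have hC := H99.J4U.cen_t D ht
  obtain ⟨g, hF, hu, hc⟩ := H99.J4U.exists_U D hgood hU
  have val_l := H99.J4U.val_l
  set l := D.φ (el lT) with hl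
  have hl3 : el lT ^ 3 = 1 := by
    have := el_word (l := [lT, lT, lT]) (l' := []) (by simp [val_l]) (by simp) (by decide +kernel)
    simpa [pow_succ, mul_assoc] using this
  have hl1 : el lT ≠ 1 := fun e => by
    rw [← el_one] at e
    exact absurd (H99.J4U.app_eq_of_el val_l val_idN e (i := 0) (by norm_num)) (by decide +kernel)
  haveI : Fact (Nat.Prime 3) := ⟨Nat.prime_three⟩
  have hlord : orderOf l = 3 :=
    orderOf_eq_prime (by rw [hl, ← map_pow, hl3, map_one])
      fun e => hl1 (D.φ_injective (e.trans (map_one _).symm))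
  have hsix : ∀ i ∈ [3, 4, 13, 14, 15, 20], i < 24 ∧ app lT i = i := by decide +kernel
  let n : Fin 6 → ℕ := ![3, 4, 13, 14, 15, 20]
  have hn : ∀ i, n i < 24 ∧ app lT (n i) = n i := by
    intro i
    fin_cases i <;> exact hsix _ (by simp [n])
  let f : Fin 6 → GolayPt := fun i => pt (n i)
  have hninj : Function.Injective n := by decide
  have hf : Function.Injective f := fun i j e => hninj ((pt_inj (hn i).1 (hn j).1).1 e)
  obtain ⟨x, hxl, hxz⟩ := H99.J4U.exists_central_six (f := f) D.hG D.S D.cent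
    (D.φ_mem_normalizer (el lT)) hlord hf fun i => by
      rw [D.Φ_φ, el_coe val_l]
      show mkPerm lT (pt (n i)) = pt (n i)
      rw [mkPerm_pt val_l.1 (hn i).1, (hn i).2]
  have hxa : x * D.F 1463 * x⁻¹ = D.c.z := by
    rw [← hxz]
    simp only [f, n, H99.J4U.pairV, Matrix.cons_val, idx_pt _ (by norm_num : (3 : ℕ) < 24),
      idx_pt _ (by norm_num : (4 : ℕ) < 24), idx_pt _ (by norm_num : (13 : ℕ) < 24),
      idx_pt _ (by norm_num : (14 : ℕ) < 24), idx_pt _ (by norm_num : (15 : ℕ) < 24),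
      idx_pt _ (by norm_num : (20 : ℕ) < 24)]
    rw [← D.S.F_xor, ← D.S.F_xor,
      show pairS 3 4 ^^^ pairS 13 14 ^^^ pairS 15 20 = 1463 by decide +kernel]
    rfl
  have key : ∀ (T w K : ℕ) (q : ℕ × ℕ) (s : ℕ), Val T → Val w → q ∈ H48.J4U.uList →
      H99.J4U.wordEq [T, q.2] [w, T] = true → D.φ (el w) ∈ D.VC g → D.TT (D.φ (el w)) →
      imgK T k0 = K → imgK lT K = K → ev s = true → s ≠ 0 → s ∉ H48.J4U.zList →
      D.TT (D.F 1463 * tK D.φ t S0 K) := by
    rintro T w K q s hT hw hq h hwm hwT rfl hlK hsev hs0 hsz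
    refine TT_of_central D (l := l) (x := x) (fun e => hl1 (D.φ_injective (e.trans (map_one _).symm)))
      hxl hxa hF (H99.J4U.mem_U D hU ht hq hT hw h hwm hwT) (commute_el hC val_l hlK).eq ?_ ?_
    · rw [← tK_el hC hT k0, tK_base hC]
      exact ht.conj_z.trans (isConj_iff.2 ⟨_, rfl⟩)
    · intro e
      exact H99.J4U.not_commute_tK_F D ht hT hsev hs0 hsz
        (e ▸ D.h.V_comm (D.F_mem _) (D.F_mem _))
  refine ⟨?_, ?_, ?_⟩
  · have := key p0 uT k0 (1805, 175667473023329699678854777731955713) 1637 H99.J4U.val_p0 H99.J4U.val_u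
      (by decide +kernel) (by decide +kernel) hu (H99.J4U.TT_u D hgood) (by decide +kernel) (by decide +kernel)
      (by decide +kernel) (by decide) (by decide)
    rwa [tK_base hC] at this
  · exact key p1 cT uaK (3675, 296592434314272111916471104909355369) 3342 H99.J4U.val_p1 H99.J4U.val_c
      (by decide +kernel) (by decide +kernel) hc (H99.J4U.TT_c D hgood) (by decide +kernel) (by decide +kernel)
      (by decide +kernel) (by decide) (by decide)
  · exact key p2 uT ucK (3052, 944002183535324198637054212187630121) 2145 H99.J4U.val_p2 H99.J4U.val_u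
      (by decide +kernel) (by decide +kernel) hu (H99.J4U.TT_u D hgood) (by decide +kernel) (by decide +kernel)
      (by decide +kernel) (by decide) (by decide)

include hgood hU ht in
/-- The types of the four products at the two sextets of the configuration. -/
theorem TT_fields : D.TT (D.F zaS * t) ∧ D.TT (D.F zaS * t * tK D.φ t S0 u0K) ∧
    D.TT (D.F zbS * tK D.φ t S0 u2K) ∧ D.TT (D.F zbS * tK D.φ t S0 u2K * tK D.φ t S0 u0K) := by
  have hC := H99.J4U.cen_t D ht
  obtain ⟨h0, h1, h2⟩ := TT_line D hgood hU ht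
  have mv : ∀ (T z K K' : ℕ), Val T → img T 1463 = z → imgK T K = K' →
      D.TT (D.F 1463 * tK D.φ t S0 K) → D.TT (D.F z * tK D.φ t S0 K') := by
    rintro T _ K _ hT rfl rfl h
    have := TT_conj (D := D) (D.φ (el T))⁻¹ h
    rw [inv_inv, show D.φ (el T) * (D.F 1463 * tK D.φ t S0 K) * (D.φ (el T))⁻¹ =
        D.φ (el T) * D.F 1463 * (D.φ (el T))⁻¹ * (D.φ (el T) * tK D.φ t S0 K * (D.φ (el T))⁻¹) by group,
      (D.conj_F (el T) hT.1 (el_coe hT).symm (s := 1463) (by decide +kernel)).2, tK_el hC hT K] at this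
    exact this
  have vM : Val mM := val_of (by decide +kernel)
  have vB : Val mB := val_of (by decide +kernel)
  rw [← tK_base hC] at h0
  obtain ⟨eM, -⟩ := H99.J4U.line_moved D hgood hU ht (T := mM) vM (A := k0) (B := u0K)
    (C := 2364773852254072883715) (by decide +kernel) (by decide +kernel) (by decide +kernel)
  obtain ⟨eB, cB⟩ := H99.J4U.line_moved D hgood hU ht (T := mB) vB (A := u0K) (B := u3K) (C := u2K)
    (by decide +kernel) (by decide +kernel) (by decide +kernel)
  rw [tK_base hC] at eM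
  have m1 := mv mM zaS k0 k0 vM (by decide +kernel) (by decide +kernel) h0
  rw [tK_base hC] at m1
  have m2 := mv mM zaS ucK 2364773852254072883715 vM (by decide +kernel) (by decide +kernel) h2
  have m3 := mv mB zbS ucK u2K vB (by decide +kernel) (by decide +kernel) h2
  have m4 := mv mB zbS uaK u3K vB (by decide +kernel) (by decide +kernel) h1
  refine ⟨m1, ?_, m3, ?_⟩
  · rw [mul_assoc, eM]; exact m2
  · have hsq : tK D.φ t S0 u0K * tK D.φ t S0 u0K = 1 := tau_sq hC _
    rw [mul_assoc, ← eB, cB.eq, mul_assoc, hsq, mul_one]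
    exact m4

include hgood hU ht in
/-- **The second long relator** from the conjugates of `V` at the two sextets. -/
theorem relTwo_of_hex (hA : HexAt D zaS listA) (hB : HexAt D zbS listB) :
    ((D.φ gY * D.φ gX * D.φ gY * D.φ gX * D.φ gY * D.φ gX * D.φ gY) ^ 3 * t *
      (((D.φ gX * D.φ gY) ^ 3 * D.φ gY * (D.φ gX * D.φ gY) ^ 6 * D.φ gY)⁻¹ * t *
        ((D.φ gX * D.φ gY) ^ 3 * D.φ gY * (D.φ gX * D.φ gY) ^ 6 * D.φ gY))) ^ 2 = 1 := by
  obtain ⟨a1, a2, b1, b2⟩ := TT_fields D hgood hU ht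
  obtain ⟨l1, l2, l3, -⟩ := H99.J4U.line_fields D hgood hU ht
  exact relTwo_uni hgood ht hA hB a1 a2 b1 b2 l1 l2 l3

end Cfsg.Agent.H56.J4U
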