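import Cfsg.Agent.H56.J4U.Transport
import Cfsg.Agent.H93.J4U.Hexad

/-!
The second long relator in the standing data with a good complement.
-/

set_option autoImplicit false
set_option linter.style.haveILetI false

namespace Cfsg.Agent.H56.J4U

open Cfsg Cfsg.Agent.Golay Cfsg.Agent.H56.J4 Cfsg.Agent.H93.J4U
open Subgroup

universe u

variable {G : Type u} [Group G] [Finite G]

theorem hexBase (D : Uni G) (hg : D.Good) : HexBase D := by
  obtain ⟨g, h1, h2, h3, h4⟩ := D.exists_hex_a hg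
  exact ⟨g, h1, h2, fun T hT => h3 _ (D.group_core hT), h4⟩

/-- **The second long relator** in the standing data with a good complement. -/
theorem relTwo_good (D : Uni G) (hg : D.Good) (hU : H48.J4U.HexHyp D.V D.F D.φ) {t : G}
    (ht : H48.J4U.IsTrioInv D.z D.V D.F D.φ t) :
    ((D.φ gY * D.φ gX * D.φ gY * D.φ gX * D.φ gY * D.φ gX * D.φ gY) ^ 3 * t *
      (((D.φ gX * D.φ gY) ^ 3 * D.φ gY * (D.φ gX * D.φ gY) ^ 6 * D.φ gY)⁻¹ * t *
        ((D.φ gX * D.φ gY) ^ 3 * D.φ gY * (D.φ gX * D.φ gY) ^ 6 * D.φ gY))) ^ 2 = 1 :=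
  relTwo_of_base hg hU ht (hexBase D hg)

end Cfsg.Agent.H56.J4U
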