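import Cfsg.Agent.H56.J4U.PairData
import Cfsg.Agent.H56.J4U.RelTwo

/-!
Four elements of `M24` centralise the groups of both sextets of the configuration.
-/

set_option autoImplicit false
set_option maxRecDepth 100000

namespace Cfsg.Agent.H56.J4U

open Cfsg Cfsg.Agent.Golay Cfsg.Agent.H56.J4

/-- the generators of both groups -/
def gensAB : List ℕ := gensA ++ gensB

/-- a word in the generators as a list of tables -/
def abWord (w : List ℕ) : List ℕ := w.map fun i => gensAB.getD i idTbl

/-- the representative of a position and its word -/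
def ptRep (k : ℕ) : ℕ × List ℕ := ptData.getD k (0, [])

/-- the table determined by the images of the three representatives -/
def combTbl (c : List ℕ) : ℕ :=
  mkTbl 24 fun k => wordApp (abWord (ptRep k).2) (c.getD (ptRep k).1 0)

lemma gens_val : gensAB.all inM24 = true ∧ inM24 idTbl = true := by decide +kernel

lemma orb_check : (orbData.all fun q => decide (q.1 < 24) &&
    q.2.2.all (fun w => wordApp (abWord w) q.1 == q.1) &&
    (List.range 24).all (fun j => q.2.1.contains j || q.2.2.any fun w => !(wordApp (abWord w) j == j))) =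
    true ∧ orbData.length = 3 ∧
    ((List.range 24).all fun k => decide ((ptRep k).1 < 3) &&
      wordApp (abWord (ptRep k).2) ((orbData.getD (ptRep k).1 (0, [], [])).1) == k) = true := by
  decide +kernel

lemma comb_check : ((orbData.getD 0 (0, [], [])).2.1.all fun a => (orbData.getD 1 (0, [], [])).2.1.all fun b =>
    (orbData.getD 2 (0, [], [])).2.1.all fun c => !inM24 (combTbl [a, b, c]) ||
      [idN, qaT, qbT, eT].any fun T => tblEq (combTbl [a, b, c]) T) = true := by
  decide +kernel

theorem centraliser_cases {σ : M24} (h : ∀ T ∈ gensAB, Commute σ (el T)) :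
    σ = 1 ∨ σ = el qaT ∨ σ = el qbT ∨ σ = el eT := by
  have hval : ∀ w, ∀ T ∈ abWord w, Val T := fun w T hT => by
    obtain ⟨i, -, rfl⟩ := List.mem_map.1 hT
    rcases Nat.lt_or_ge i gensAB.length with hi | hi
    · rw [List.getD_eq_getElem _ _ hi]
      exact val_of (List.all_eq_true.1 gens_val.1 _ (List.getElem_mem hi))
    · rw [List.getD_eq_default _ _ hi]
      exact val_of gens_val.2
  have hcw : ∀ w, Commute σ ((abWord w).map el).prod := fun w => by
    refine Commute.list_prod_right _ _ fun x hx => ?_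
    obtain ⟨T, hT, rfl⟩ := List.mem_map.1 hx
    obtain ⟨i, -, rfl⟩ := List.mem_map.1 hT
    rcases Nat.lt_or_ge i gensAB.length with hi | hi
    · rw [List.getD_eq_getElem _ _ hi]; exact h _ (List.getElem_mem hi)
    · rw [List.getD_eq_default _ _ hi]
      have : el idTbl = 1 := Subtype.ext (by rw [el_coe (val_of gens_val.2), idTbl_spec.2]; rfl)
      rw [this]; exact Commute.one_right σ
  set f : ℕ → ℕ := fun i => idx ((σ : Equiv.Perm GolayPt) (pt i)) with hf
  have hmove : ∀ w i, i < 24 → f (wordApp (abWord w) i) = wordApp (abWord w) (f i) := fun w i hi => by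
    obtain ⟨-, h2⟩ := prod_el_pt (hval w) i hi
    obtain ⟨h3, h4⟩ := prod_el_pt (hval w) (f i) (idx_lt _)
    have e := congrArg (fun m : M24 => (m : Equiv.Perm GolayPt) (pt i)) (hcw w).eq
    simp only [Subgroup.coe_mul, Equiv.Perm.mul_apply, h2] at e
    rw [← pt_idx ((σ : Equiv.Perm GolayPt) (pt i)), h4] at e
    show idx ((σ : Equiv.Perm GolayPt) (pt (wordApp (abWord w) i))) = _
    rw [e, idx_pt _ h3]
  obtain ⟨horb, hlen, hpt⟩ := orb_check
  simp only [List.all_eq_true, Bool.and_eq_true, decide_eq_true_eq, beq_iff_eq, Bool.or_eq_true,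
    List.mem_range, List.contains_iff_mem, List.any_eq_true, Bool.not_eq_true', beq_eq_false_iff_ne] at horb hpt
  set r : ℕ → ℕ × List ℕ × List (List ℕ) := fun n => orbData.getD n (0, [], []) with hr
  have hrm : ∀ n < 3, r n ∈ orbData := fun n hn => by
    rw [hr]; dsimp only; rw [List.getD_eq_getElem _ _ (by omega)]; exact List.getElem_mem _
  have hcand : ∀ n < 3, f (r n).1 ∈ (r n).2.1 := fun n hn => by
    obtain ⟨⟨h1, h2⟩, h3⟩ := horb _ (hrm n hn)
    refine (h3 (f (r n).1) (idx_lt _)).resolve_right ?_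
    rintro ⟨w, hw, hne⟩
    exact hne (by rw [← hmove w _ h1, h2 w hw])
  have hT : ∀ i < 24, app (combTbl [f (r 0).1, f (r 1).1, f (r 2).1]) i = f i := fun k hk => by
    rw [combTbl, app_mkTbl hk fun j hj => ?_]
    · obtain ⟨h1, h2⟩ := hpt k hk
      have hn := (ptRep k).1
      conv_rhs => rw [← h2, hmove _ _ (horb _ (hrm _ h1)).1.1]
      congr 1
      obtain h | h | h : (ptRep k).1 = 0 ∨ (ptRep k).1 = 1 ∨ (ptRep k).1 = 2 := by omega
      all_goals rw [h]; rfl
    · obtain ⟨h1, -⟩ := hpt j hj
      have : ([f (r 0).1, f (r 1).1, f (r 2).1] : List ℕ).getD (ptRep j).1 0 < 24 := by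
        obtain h | h | h : (ptRep j).1 = 0 ∨ (ptRep j).1 = 1 ∨ (ptRep j).1 = 2 := by omega
        all_goals rw [h]; exact idx_lt _
      exact (prod_el_pt (hval _) _ this).1.trans (by norm_num)
  obtain ⟨hv, hσ⟩ := validT_of_pointwise (T := combTbl [f (r 0).1, f (r 1).1, f (r 2).1]) (σ : Equiv.Perm GolayPt) hT
  have hc := comb_check
  simp only [List.all_eq_true] at hc
  have := hc _ (hcand 0 (by norm_num)) _ (hcand 1 (by norm_num)) _ (hcand 2 (by norm_num))
  rw [(inM24_iff hv).2 (hσ ▸ σ.2), Bool.not_true, Bool.false_or, List.any_eq_true] at this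
  obtain ⟨T, hTm, hTe⟩ := this
  have key : ∀ S, Val S → tblEq (combTbl [f (r 0).1, f (r 1).1, f (r 2).1]) S = true → σ = el S :=
    fun S hS he => Subtype.ext (by rw [el_coe hS, ← mkPerm_eq_of_tblEq hv hS.1 he, hσ])
  simp only [List.mem_cons, List.not_mem_nil, or_false] at hTm
  rcases hTm with rfl | rfl | rfl | rfl
  · exact Or.inl ((key _ val_idN hTe).trans el_one)
  · exact Or.inr (Or.inl (key _ val_qa hTe))
  · exact Or.inr (Or.inr (Or.inl (key _ val_qb hTe)))
  · exact Or.inr (Or.inr (Or.inr (key _ val_e hTe)))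

end Cfsg.Agent.H56.J4U
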