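import Cfsg.Agent.H56.J4U.RelTwoData
import Cfsg.Agent.H38.JFour.Cocode

/-!
The elements of `M24` centralising the groups of both sextets of the configuration.
-/

set_option autoImplicit false
set_option maxRecDepth 100000

namespace Cfsg.Agent.H56.J4U

open Cfsg Cfsg.Agent.Golay Cfsg.Agent.H56.J4

/-- generators of the group of the first sextet -/
def gensA : List ℕ := [111229508695025668977656225693031732, 975285393183670318098431536273721792, 179765675226249393848435336606752209, 96687633854019045911928532496931890, 984813785578476177683021520655976914, 318946103409067647538157822673523136]

/-- generators of the group of the second sextet -/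
def gensB : List ℕ := [972745140205618576797795644940066164, 183273257357140614023261824113811083, 185882086357336679609054873173726209, 153685064311558902248433654775389216, 806348409070698195018542851801891188, 800126781124227010572211399043465248]

/-- representatives of the three orbits with the positions their stabiliser fixes and words showing this -/
def orbData : List (ℕ × List ℕ × List (List ℕ)) := [

  (0, [0, 20], [[1], [3, 4], [0, 6]]),
  (2, [2, 7], [[1], [0, 3], [2, 6]]),
  (6, [6, 12], [[0], [1, 2], [7, 8]])]

/-- each position as the image of a representative -/
def ptData : List (ℕ × List ℕ) := [(0, []), (0, [8]), (1, []), (1, [9, 0]), (1, [5]), (1, [8]), (2, []), (1, [2]), (2, [1]), (0, [7, 2]), (2, [6]), (0, [7]), (2, [4]), (2, [4, 1]), (0, [7, 3]), (2, [6, 1]), (1, [10]), (0, [2]), (0, [3]), (1, [10, 0]), (0, [0]), (2, [7]), (2, [11, 1]), (1, [0])]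

/-- duads inside tetrads of the first sextet with sum the second -/
def duadsA : List ℕ := [2110, 1929]

/-- duads inside tetrads of the second sextet with sum the first -/
def duadsB : List ℕ := [2110, 1247]

end Cfsg.Agent.H56.J4U
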