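import Mathlib

/-!
The group algebra behind the second long relator of the Janko-four presentation: two trio involutions `t1, t2` with
middle `t0`, the sextet elements `za, zb` joining them to `t0`, and the translations `qa, qb`.
-/

set_option autoImplicit false

namespace Cfsg.Agent.H56.J4U

variable {G : Type*} [Group G]

/-- An element of order at most two. -/
theorem inv_eq_self_of_mul {a : G} (h : a * a = 1) : a⁻¹ = a := inv_eq_of_mul_eq_one_right h

theorem cancel_right_two {a b : G} (h : b * b = 1) : a * b * b = a := by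
  rw [mul_assoc, h, mul_one]

/-- `(t1 t2)^2` is the commutator of `za t1` and `zb t2` times the two translations. -/
theorem sq_formula {za zb t1 t2 qa qb : G}
    (hza : za * za = 1) (hzb : zb * zb = 1) (ht1 : t1 * t1 = 1) (ht2 : t2 * t2 = 1)
    (hab : Commute za zb) (h1a : Commute za t1) (h2b : Commute zb t2)
    (hqa : qa = t1 * zb * t1 * zb) (hqb : qb = za * t2 * za * t2)
    (hqa_t2 : Commute qa t2) (hqb_t1 : Commute qb t1) (hqb_t2 : Commute qb t2)
    (hqb_zb : Commute qb zb) :
    (za * t1) * (zb * t2) * ((za * t1) * (zb * t2)) = t1 * t2 * (t1 * t2) * (qb * qa) := by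
  have ea : zb * (t1 * zb) = t1 * qa := by
    rw [hqa, show t1 * (t1 * zb * t1 * zb) = (t1 * t1) * (zb * (t1 * zb)) by group, ht1, one_mul]
  have eb : za * (t2 * za) = qb * t2 := by rw [hqb, cancel_right_two ht2, mul_assoc]
  calc (za * t1) * (zb * t2) * ((za * t1) * (zb * t2))
      = (t1 * (za * zb)) * t2 * za * (t1 * (zb * t2)) := by nth_rewrite 1 [h1a.eq]; group
    _ = t1 * zb * (za * (t2 * za)) * t1 * zb * t2 := by rw [hab.eq]; group
    _ = t1 * (zb * qb) * t2 * t1 * zb * t2 := by rw [eb]; group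
    _ = t1 * qb * (zb * t2) * t1 * zb * t2 := by rw [← hqb_zb.eq]; group
    _ = t1 * qb * (t2 * (zb * (t1 * zb))) * t2 := by
        rw [h2b.eq]; group
    _ = t1 * qb * t2 * t1 * (qa * t2) := by rw [ea]; group
    _ = t1 * t2 * t1 * (qb * t2) * qa := by
        rw [hqa_t2.eq, show t1 * qb * t2 * t1 = t1 * t2 * t1 * qb by
          rw [mul_assoc t1, hqb_t2.eq, ← mul_assoc, mul_assoc (t1 * t2), hqb_t1.eq, ← mul_assoc]]
        group
    _ = _ := by rw [hqb_t2.eq]; group

/-- The two possible values of `(t1 t2)^2`. -/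
theorem sq_cases {za zb t0 t1 t2 qa qb : G}
    (hza : za * za = 1) (hzb : zb * zb = 1) (ht1 : t1 * t1 = 1) (ht2 : t2 * t2 = 1)
    (hab : Commute za zb) (h1a : Commute za t1) (h2b : Commute zb t2)
    (hqa : qa = t1 * zb * t1 * zb) (hqb : qb = za * t2 * za * t2)
    (hqa_t2 : Commute qa t2) (hqb_t1 : Commute qb t1) (hqb_t2 : Commute qb t2)
    (hqb_zb : Commute qb zb) (hq : qb * qa * (qb * qa) = 1)
    (hcomm : (za * t1) * (zb * t2) * ((za * t1) * (zb * t2)) = 1 ∨
      (za * t1) * (zb * t2) * ((za * t1) * (zb * t2)) = t0) :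
    t1 * t2 * (t1 * t2) = qb * qa ∨ t1 * t2 * (t1 * t2) = t0 * (qb * qa) := by
  have e := sq_formula hza hzb ht1 ht2 hab h1a h2b hqa hqb hqa_t2 hqb_t1 hqb_t2 hqb_zb
  have e' : t1 * t2 * (t1 * t2) =
      (za * t1) * (zb * t2) * ((za * t1) * (zb * t2)) * (qb * qa) := by
    rw [e, mul_assoc _ (qb * qa) (qb * qa), hq, mul_one]
  rcases hcomm with h | h
  · left; rw [e', h, one_mul]
  · right; rw [e', h]

/-- Three configurations with the same end `t2` cannot all have square the plain translation. -/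
theorem not_plain {t0 a b t2 p p' : G} (hb : b * b = 1) (ht2 : t2 * t2 = 1)
    (hab : Commute a b) (hp : p * p = 1)
    (hx : a * t2 * (a * t2) = p) (hx' : b * t2 * (b * t2) = p')
    (hx'' : (a * b) * t2 * ((a * b) * t2) = p * p') (hpb : p * b * p = t0 * b) :
    t0 = 1 := by
  have h1 : b * p * b * p' = p * p' := by
    rw [← hx'', ← hx, ← hx']
    calc b * (a * t2 * (a * t2)) * b * (b * t2 * (b * t2))
        = (b * a) * t2 * a * t2 * (b * b) * (t2 * (b * t2)) := by group
      _ = (b * a) * t2 * (a * ((t2 * t2) * (b * t2))) := by rw [hb, mul_one]; group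
      _ = _ := by rw [ht2, one_mul, ← hab.eq, ← mul_assoc a b t2]
  have h2 : b * p = p * b := by
    have h3 : b * p * b = p := mul_right_cancel h1
    calc b * p = b * p * b * b := (cancel_right_two hb).symm
      _ = p * b := by rw [h3]
  have h4 : p * b * p = b := by rw [← h2, cancel_right_two hp]
  exact mul_eq_right.1 (hpb.symm.trans h4)

/-- The long relator vanishes. -/
theorem relator {t0 t1 t2 s e : G} (ht0 : t0 * t0 = 1) (he : e * e = 1)
    (hs : s * s = e) (hs1 : Commute s t1) (hst2 : s * t2 * s⁻¹ = t0 * t2)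
    (h01 : Commute t0 t1) (he1 : Commute e t1) (he2 : Commute e t2)
    (hx : t1 * t2 * (t1 * t2) = t0 * e) : (s * t1 * t2) ^ 2 = 1 := by
  calc (s * t1 * t2) ^ 2 = (t1 * s) * t2 * (t1 * s) * t2 := by rw [← hs1.eq, pow_two]; group
    _ = t1 * (s * t2 * s⁻¹) * ((s * s) * (s⁻¹ * t1 * s)) * t2 := by group
    _ = t1 * (t0 * t2) * (e * t1) * t2 := by
      rw [hst2, hs, show s⁻¹ * t1 * s = t1 by rw [mul_assoc, ← hs1.eq]; group]
    _ = t0 * (t1 * t2 * (t1 * t2)) * e := by
      rw [← mul_assoc t1 t0 t2, ← h01.eq]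
      rw [he1.eq]
      rw [show t0 * t1 * t2 * (t1 * e) * t2 = t0 * (t1 * t2 * t1) * (e * t2) by group, he2.eq]
      group
    _ = 1 := by
      rw [hx, ← mul_assoc, ht0, one_mul, he]

end Cfsg.Agent.H56.J4U
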