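import Cfsg.Agent.H56.J4U.RelTwo
import Cfsg.Agent.H48.J4U.Equiv

/-!
The hypotheses of the second relator from the involution of the base trio, the conjugates of `V` at the two
sextets of the configuration, and the relation on lines.
-/

set_option autoImplicit false
set_option maxRecDepth 100000

namespace Cfsg.Agent.H56.J4U

open Cfsg Cfsg.Agent.Golay Cfsg.Agent.H56.J4 Cfsg.Agent.H48.J4U Cfsg.Agent.H38.JFour Subgroup
open Cfsg.Agent.H56.J4.Up (k0)
open scoped Pointwise

universe u

variable {G : Type u} [Group G] {z t : G} {V : Subgroup G} {F : ℕ → G} {φ : ↥Cfsg.M24 →* G}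

/-- a fixed-point-free involution of the sextet group of `zbS` centralising the element of order three of the second
trio -/
def ubT : ℕ := 144493329811986112879765423782598283

/-- a fixed-point-free involution of the sextet group of `zbS` fixing the first trio -/
def ubFixT : ℕ := 806348409070698195018542851801891188

/-- a fixed-point-free involution of the sextet group of `zaS` centralising the element of order three of the first
trio -/
def uaT : ℕ := 310668426033999560676041589441171921

/-- a fixed-point-free involution of the sextet group of `zaS` fixing the second trio -/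
def uaFixT : ℕ := 179765675226249393848435336606752209

/-- a table moving the base trio to the middle one -/
def rep0T : ℕ := 650584323790482353024699566521360499

/-- What is used of the conjugates of `V` at the two sextets and of relation 1. -/
structure Loc (z t : G) (V : Subgroup G) (F : ℕ → G) (φ : ↥Cfsg.M24 →* G) : Prop where
  pair : ∃ ga gb : G,
    (F zaS ∈ conjV V ga ∧ φ (el uaT) ∈ conjV V ga ∧ φ (el uaFixT) ∈ conjV V ga) ∧
    (F zbS ∈ conjV V gb ∧ φ (el ubT) ∈ conjV V gb ∧ φ (el ubFixT) ∈ conjV V gb) ∧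
    F zbS ∈ normalizer (conjV V ga : Set G) ∧ F zaS ∈ normalizer (conjV V gb : Set G) ∧
    ∀ d ∈ normalizer (V : Set G), d ∈ conjV V ga → d ∈ conjV V gb →
      ∃ σ, (σ = 1 ∨ σ = el qaT ∨ σ = el qbT ∨ σ = el eT) ∧ φ σ = d
  core_a : t * F zbS * t * F zbS ∈ normalizer (V : Set G)
  core_b : F zaS * tK φ t S0 u2K * F zaS * tK φ t S0 u2K ∈ normalizer (V : Set G)
  core_comm : F zaS * t * (F zbS * tK φ t S0 u2K) * (F zaS * t * (F zbS * tK φ t S0 u2K)) = 1 ∨
    F zaS * t * (F zbS * tK φ t S0 u2K) * (F zaS * t * (F zbS * tK φ t S0 u2K)) = tK φ t S0 u0K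
  mid_t : Commute (tK φ t S0 u0K) t
  line_b : tK φ t S0 u3K = tK φ t S0 u0K * tK φ t S0 u2K
  line_d : tK φ t S0 udK = tK φ t S0 u0K * tK φ t S0 uaK
  line_c : tK φ t S0 ucK = t * tK φ t S0 uaK

theorem el_eq_tPerm {T : ℕ} (h : inM24 T = true) : el T = tPerm T h :=
  Subtype.ext (el_coe (val_of h))

theorem el_x' : el H48.J4U.xT = gX := el_x

theorem el_w' : el H48.J4U.wT = gW := by
  refine Subtype.ext ?_
  have hv : Val H48.J4U.wT := val_of (by decide +kernel)
  have hi : invOK Up.wT H48.J4U.wT = true := by decide +kernel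
  rw [el_coe hv, gW, ← inv_inv (mkPerm H48.J4U.wT)]
  exact inv_eq_iff_eq_inv.2 (invOK_spec hi).2.2

theorem cen_of_trioStab (ht : t * t = 1)
    (hc : ∀ σ ∈ trioStab, Commute (φ σ) t) : Cen φ t S0 :=
  cen_of_comm φ t ht
    (hc _ (subset_closure (Or.inl ((el_x'.symm.trans (el_eq_tPerm gen_facts.1))))))
    (hc _ (subset_closure (Or.inr ((el_w'.symm.trans (el_eq_tPerm gen_facts.2.1))))))

theorem conjV_conj {g : G} (x : G) {w : G} :
    w ∈ conjV V (x * g) ↔ x⁻¹ * w * x ∈ conjV V g := by
  rw [mem_conjV, mem_conjV]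
  constructor <;> intro h <;> simpa [mul_assoc] using h

theorem q698_mem : ((698, 303934666482472510870088253164633089) : ℕ × ℕ) ∈ uList :=
  List.mem_cons_self

theorem q3297_mem : ((3297, uaT) : ℕ × ℕ) ∈ uList := by
  simp [uList, uaT]

theorem hyp_of_loc (E : Env z V F φ) (ht : t * t = 1) (ht1 : t ≠ 1)
    (hc : ∀ σ ∈ trioStab, Commute (φ σ) t)
    (hmem : ∀ q, ∀ hq : q ∈ uList, ∀ g, φ (tPerm q.2 (gen_facts.2.2.2.1 q hq)) ∈ conjV V g →
      t ∈ conjV V g)
    (hsext : ∀ a ∈ zList, Commute t (F a))
    (hcV : ∀ s, ev s = true → Commute t (F s) → s = 0 ∨ s ∈ zList)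
    (L : Loc z t V F φ) : Hyp φ t (F zaS) (F zbS) := by
  have C := cen_of_trioStab ht hc
  obtain ⟨ga, gb, ⟨ha1, ha2, ha3⟩, ⟨hb1, hb2, hb3⟩, hnb, hna, hint⟩ := L.pair
  have hconj : ∀ (T : ℕ) (hT : inM24 T = true) (s : ℕ), ev s = true →
      φ (el T) * F s * (φ (el T))⁻¹ = F (lin (linGens T) s) := fun T hT s hs => by
    rw [el_eq_tPerm hT]; exact (E.conj_lin T hT s hs).2
  have hfix : ∀ (T : ℕ), inM24 T = true → ∀ s, ev s = true → lin (linGens T) s = s →
      Commute (φ (el T)) (F s) := fun T hT s hs hl => by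
    have := hconj T hT s hs
    rw [hl] at this
    exact mul_inv_eq_iff_eq_mul.1 this
  have hb : (φ (el bT))⁻¹ * t * φ (el bT) = tK φ t S0 u2K := by
    have h := tK_el (φ := φ) (t := t) C val_b u2K
    rw [show imgK bT u2K = k0 by decide +kernel, tK_base C] at h
    calc (φ (el bT))⁻¹ * t * φ (el bT)
        = (φ (el bT))⁻¹ * (φ (el bT) * tK φ t S0 u2K * (φ (el bT))⁻¹) * φ (el bT) := by rw [h]
      _ = tK φ t S0 u2K := by group
  have hbF : ∀ s, ev s = true → (Commute (tK φ t S0 u2K) (F s) ↔
      Commute t (F (lin (linGens bT) s))) := fun s hs => by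
    rw [← hb, ← hconj bT (by decide +kernel) s hs]
    constructor
    · intro h
      have := h.map (MulAut.conj (φ (el bT)))
      simp only [MulAut.conj_apply] at this
      rwa [show φ (el bT) * ((φ (el bT))⁻¹ * t * φ (el bT)) * (φ (el bT))⁻¹ = t by group] at this
    · intro h
      have := h.map (MulAut.conj (φ (el bT))⁻¹)
      simp only [MulAut.conj_apply, inv_inv] at this
      rwa [show (φ (el bT))⁻¹ * (φ (el bT) * F s * (φ (el bT))⁻¹) * φ (el bT) = F s by group] at this
  have hnot : ∀ T : ℕ, ∀ hT : inM24 T = true, tblEq (tblMul T T) idTbl = true →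
      ((List.range 24).all fun i => !(app T i == i)) = true →
      φ (el T) ≠ 1 ∧ ¬ IsConj z (φ (el T)) := by
    intro T hT hs hf
    have hv := validT_of_inM24 hT
    have h3 := tblMul_spec hv hv
    have hfree : ∀ p, ((el T : M24) : Equiv.Perm GolayPt) p ≠ p := fun p e => by
      simp only [List.all_eq_true, List.mem_range, Bool.not_eq_true', beq_eq_false_iff_ne] at hf
      refine hf (idx p) (idx_lt p) ?_
      rw [← idx_mkPerm hv, ← el_coe (val_of hT)]
      exact congrArg idx e
    have hsq : el T * el T = 1 := Subtype.ext (by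
      rw [Subgroup.coe_mul, el_coe (val_of hT), ← h3.2, mkPerm_eq_of_tblEq h3.1 idTbl_spec.1 hs,
        idTbl_spec.2]
      rfl)
    exact ⟨fun e => hfree none (by rw [E.φ_inj (e.trans (map_one φ).symm)]; rfl),
      E.free_not_conj _ hsq hfree⟩
  have hnorm : ∀ {u g x : G}, u ∈ conjV V g → u ≠ 1 → ¬ IsConj z u → Commute x u →
      ∀ w ∈ conjV V g, x * w * x⁻¹ ∈ conjV V g := by
    intro u g x hu h1 h2 hx w hw
    rw [mem_conjV] at hu hw ⊢
    have h1' : g⁻¹ * u * g ≠ 1 := fun e => h1 (by
      rw [show u = g * (g⁻¹ * u * g) * g⁻¹ by group, e]; group)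
    have h2' : ¬ IsConj z (g⁻¹ * u * g) := fun h => h2 (h.trans (isConj_iff.2 ⟨g, by group⟩))
    have hN : g⁻¹ * x * g ∈ normalizer (V : Set G) := by
      refine E.cent _ hu h1' h2' (mem_centralizer_iff.2 fun y hy => ?_)
      rw [Set.mem_singleton_iff.1 hy]
      calc g⁻¹ * u * g * (g⁻¹ * x * g) = g⁻¹ * (u * x) * g := by group
        _ = g⁻¹ * (x * u) * g := by rw [hx.eq]
        _ = g⁻¹ * x * g * (g⁻¹ * u * g) := by group
    have := (mem_normalizer_iff.1 hN (g⁻¹ * w * g)).1 hw
    rwa [show g⁻¹ * (x * w * x⁻¹) * g = g⁻¹ * x * g * (g⁻¹ * w * g) * (g⁻¹ * x * g)⁻¹ by group]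
  have ht2 : tK φ t S0 u2K * tK φ t S0 u2K = 1 := tau_sq C _
  have htU : t ∈ conjV V ga := hmem _ q3297_mem ga (by rw [← el_eq_tPerm]; exact ha2)
  have htU2 : tK φ t S0 u2K ∈ conjV V gb := by
    have hmove : el bT * el ubT = el 303934666482472510870088253164633089 * el bT := by
      have := el_word (l := [bT, ubT]) (l' := [303934666482472510870088253164633089, bT])
        (by simp [val_b, val_of (T := ubT) (by decide +kernel)])
        (by simp [val_b, val_of (T := 303934666482472510870088253164633089) (by decide +kernel)])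
        (by decide +kernel)
      simpa using this
    have h := hmem _ q698_mem (φ (el bT) * gb) (by
      rw [conjV_conj, ← el_eq_tPerm, ← map_inv, ← map_mul, ← map_mul,
        mul_assoc, ← hmove, inv_mul_cancel_left]
      exact hb2)
    rw [conjV_conj, hb] at h
    exact h
  have hza2 : F zaS * F zaS = 1 := E.sq _ (E.F_mem _)
  have hzb2 : F zbS * F zbS = 1 := E.sq _ (E.F_mem _)
  refine
    { cen := C
      inj := fun a b e => E.φ_inj e
      za_sq := hza2
      zb_sq := hzb2
      za_zb := E.toMdl.comm (E.F_mem _) (E.F_mem _)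
      za_t := (hsext _ (by decide)).symm
      zb_t := fun h => ?_
      zb_tb := ((hbF zbS (by decide +kernel)).2 (hsext _ (by decide +kernel))).symm
      za_tb := fun h => ?_
      za_fix := hfix _ (by decide +kernel) _ (by decide +kernel) (by decide +kernel)
      zb_fix := hfix _ (by decide +kernel) _ (by decide +kernel) (by decide +kernel)
      qb_fix := hfix _ (by decide +kernel) _ (by decide +kernel) (by decide +kernel)
      comm_a := hint _ L.core_a ?_ ?_
      comm_b := hint _ L.core_b ?_ ?_
      core_comm := L.core_comm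
      mid_ne := fun e => ?_
      line_b := L.line_b
      line_d := L.line_d
      line_c := L.line_c
      mid_t := L.mid_t }
  · rcases hcV _ (by decide +kernel) h.symm with e | e
    · exact absurd e (by decide)
    · exact absurd e (by decide +kernel)
  · rcases hcV _ (by decide +kernel) ((hbF zaS (by decide +kernel)).1 h.symm) with e | e
    · exact absurd e (by decide +kernel)
    · exact absurd e (by decide +kernel)
  · have h2 : F zbS * t * (F zbS)⁻¹ ∈ conjV V ga := (mem_normalizer_iff.1 hnb t).1 htU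
    rw [inv_eq_self_of_mul hzb2] at h2
    simpa [mul_assoc] using mul_mem htU h2
  · obtain ⟨h1, h2⟩ := hnot ubFixT (by decide +kernel) (by decide +kernel) (by decide +kernel)
    have h3 := hnorm hb3 h1 h2 (commute_el_base C (val_of (T := ubFixT) (by decide +kernel))
      (by decide +kernel)).symm _ hb1
    rw [inv_eq_self_of_mul ht] at h3
    exact mul_mem h3 hb1
  · obtain ⟨h1, h2⟩ := hnot uaFixT (by decide +kernel) (by decide +kernel) (by decide +kernel)
    have h3 := hnorm ha3 h1 h2 (commute_el C (val_of (T := uaFixT) (by decide +kernel))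
      (K := u2K) (by decide +kernel)).symm _ ha1
    rw [inv_eq_self_of_mul ht2] at h3
    have := mul_mem ha1 h3
    simpa [mul_assoc] using this
  · have h2 : F zaS * tK φ t S0 u2K * (F zaS)⁻¹ ∈ conjV V gb := (mem_normalizer_iff.1 hna _).1 htU2
    rw [inv_eq_self_of_mul hza2] at h2
    exact mul_mem h2 htU2
  · refine ht1 ?_
    have hr : ∀ T, Val T → imgK T k0 = u0K → t = 1 := fun T hT h => by
      have := tK_el (φ := φ) (t := t) C hT k0
      rw [tK_base C, h, e, mul_inv_eq_one] at this
      exact mul_eq_left.1 this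
    exact hr rep0T (val_of (by decide +kernel)) (by decide +kernel)

end Cfsg.Agent.H56.J4U
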