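import Cfsg.Agent.H56.J4U.RelTwoInst
import Cfsg.Agent.H56.J4U.PairCheck
import Cfsg.Agent.H48.J4U.Uni
import Cfsg.Agent.H48.J4U.Transfer

/-!
The second relator in the standing data: what is needed is the conjugates of `V` at the two sextets, the type of
four products and three instances of relation 1.
-/

set_option autoImplicit false
set_option maxRecDepth 100000
set_option linter.style.haveILetI false

namespace Cfsg.Agent.H56.J4U

open Cfsg Cfsg.Agent.Golay Cfsg.Agent.H56.J4 Cfsg.Agent.H48.J4U Cfsg.Agent.H38.JFour Cfsg.Agent.H93.J4U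
open Subgroup H98.JFour H43.JFour
open Cfsg.Agent.H56.J4.Up (k0)
open scoped Pointwise

universe u

variable {G : Type u} [Group G] [Finite G]

/-- A conjugate of `V` at the sextet `a` holding the listed elements of the complement. -/
def HexAt (D : Uni G) (a : ℕ) (L : List ℕ) : Prop :=
  ∃ g : G, Commute g (D.F a) ∧ D.F a ∈ D.VC g ∧ (∀ T ∈ L, D.φ (el T) ∈ D.VC g) ∧
    ∀ v ∈ D.V, v ∈ D.VC g → v = 1 ∨ v = D.F a

/-- an involution of the first sextet group centralising the element of order three of the middle trio -/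
def u0AT : ℕ := 111251695584707771698413257545604465

/-- an involution of the second sextet group centralising the element of order three of the middle trio -/
def u0BT : ℕ := 186111527047953243443024231659061620

/-- the elements wanted at the first sextet -/
def listA : List ℕ := gensA ++ [qaT, qbT, eT, uaT, uaFixT, u0AT]

/-- the elements wanted at the second sextet -/
def listB : List ℕ := gensB ++ [qaT, qbT, eT, ubT, ubFixT, u0BT]

variable {D : Uni G}

theorem conj_mem_VC {x g w : G} (h : w ∈ D.VC (x * g)) : x⁻¹ * w * x ∈ D.VC g := by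
  rw [D.mem_VC] at h ⊢
  simpa [mul_assoc] using h

theorem VC_comm {g a b : G} (ha : a ∈ D.VC g) (hb : b ∈ D.VC g) : Commute a b := by
  have h := D.h.V_comm (D.mem_VC.1 ha) (D.mem_VC.1 hb)
  calc a * b = g * ((g⁻¹ * a * g) * (g⁻¹ * b * g)) * g⁻¹ := by group
    _ = g * ((g⁻¹ * b * g) * (g⁻¹ * a * g)) * g⁻¹ := by rw [h]
    _ = b * a := by group

/-- the core of a conjugate of `z` in `V` lies in `N(V)` -/
theorem core_le {a : G} (ha : a ∈ D.V) (haz : IsConj D.z a) {x : G}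
    (hx : x ∈ Cfsg.twoCoreOfCentralizer a) : x ∈ normalizer (D.V : Set G) := by
  obtain ⟨k, hk, rfl⟩ := D.S.exists_K_conj ha haz
  rw [D.S.mem_core] at hx
  have h1 := D.h.E_le_NH hx
  rw [D.h.NH_eq] at h1
  have h2 := D.S.hK.le hk
  rw [show x = k * (k⁻¹ * x * k) * k⁻¹ by group]
  exact mul_mem (mul_mem h2 (mem_inf.1 h1).2) (inv_mem h2)

/-- the core is normalised by the centraliser -/
theorem core_conj {a g x : G} (hg : Commute g a) (hx : x ∈ Cfsg.twoCoreOfCentralizer a) :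
    g * x * g⁻¹ ∈ Cfsg.twoCoreOfCentralizer a := by
  have h := twoCore_conj g a
  rw [hg.eq, mul_inv_cancel_right] at h
  rw [h, Ctx.mem_conj_map]
  simpa [mul_assoc] using hx

theorem TT_rest {v : G} (hv : v ∈ D.V) (ht : D.TT v) : v ∈ D.h.rest := by
  obtain ⟨s, hs, rfl⟩ := D.exists_F hv
  exact (D.S.F_rest hs).2 ((D.F_TT hs).1 ht)

theorem TT_conj {x : G} (g : G) (h : D.TT x) : D.TT (g⁻¹ * x * g) := by
  refine ⟨?_, fun e => h.2.1 ?_, fun hc => h.2.2 (hc.trans (isConj_iff.2 ⟨g, by group⟩))⟩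
  · rw [show g⁻¹ * x * g * (g⁻¹ * x * g) = g⁻¹ * (x * x) * g by group, h.1]; group
  · rw [show x = g * (g⁻¹ * x * g) * g⁻¹ by group, e]; group

/-- two elements outside the class of `z` differing by a conjugate of `z` in one conjugate of `V` -/
theorem mem_core_of_TT {g a x : G} (ha : a ∈ D.VC g) (haz : IsConj D.z a) (hx : x ∈ D.VC g)
    (h1 : D.TT x) (h2 : D.TT (x * a)) : x ∈ Cfsg.twoCoreOfCentralizer a := by
  rw [D.mem_VC] at ha hx
  have hxa : g⁻¹ * (x * a) * g = (g⁻¹ * x * g) * (g⁻¹ * a * g) := by group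
  have h2' : (g⁻¹ * x * g) * (g⁻¹ * a * g) ∈ D.h.rest :=
    TT_rest (mul_mem hx ha) (hxa ▸ TT_conj g h2)
  have hm := D.S.pair_core ha (haz.trans (isConj_iff.2 ⟨g⁻¹, by group⟩))
    (TT_rest hx (TT_conj g h1)) h2'
  have h := twoCore_conj g⁻¹ a
  rw [inv_inv] at h
  rw [h, Ctx.mem_conj_map, inv_inv] at hm
  simpa [mul_assoc] using hm

theorem duads_check : (zaS == duadsB.foldl (· ^^^ ·) 0) = true ∧ (zbS == duadsA.foldl (· ^^^ ·) 0) = true ∧
    (duadsA.all fun d => isDuad d && isDuad (d ^^^ zaS)) = true ∧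
    (duadsB.all fun d => isDuad d && isDuad (d ^^^ zbS)) = true ∧
    isSext zaS = true ∧ isSext zbS = true ∧ (zaS == zbS) = false := by decide +kernel

theorem F_core {a : ℕ} (ha : isSext a = true) {ds : List ℕ}
    (hds : (ds.all fun d => isDuad d && isDuad (d ^^^ a)) = true) :
    D.F (ds.foldl (· ^^^ ·) 0) ∈ Cfsg.twoCoreOfCentralizer (D.F a) := by
  simp only [List.all_eq_true, Bool.and_eq_true] at hds
  suffices H : ∀ l : List ℕ, (∀ d ∈ l, d ∈ ds) → ∀ s, D.F s ∈ Cfsg.twoCoreOfCentralizer (D.F a) →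
      D.F (l.foldl (· ^^^ ·) s) ∈ Cfsg.twoCoreOfCentralizer (D.F a) from
    H ds (fun _ h => h) 0 (by rw [D.F_zero]; exact one_mem _)
  intro l
  induction l with
  | nil => intro _ s hs; exact hs
  | cons d l ih =>
    intro hl s hs
    rw [List.foldl_cons]
    refine ih (fun e he => hl e (List.mem_cons_of_mem _ he)) _ ?_
    rw [D.F_xor]
    refine mul_mem hs ?_
    obtain ⟨h1, h2⟩ := hds d (hl d List.mem_cons_self)
    refine D.S.pair_core (D.F_mem a) ((D.F_isConj (isSext_ev ha).1).2 ha)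
      ((D.S.F_rest (ev_of_isDuad h1).1).2 h1) ?_
    show D.F d * D.F a ∈ _
    rw [← D.F_xor]
    exact (D.S.F_rest (ev_of_isDuad h2).1).2 h2

/-- Elements of `N(V)` in both conjugates of `V`. -/
theorem pair_cases {ga gb : G}
    (hA : D.F zaS ∈ D.VC ga ∧ (∀ T ∈ listA, D.φ (el T) ∈ D.VC ga) ∧
      ∀ v ∈ D.V, v ∈ D.VC ga → v = 1 ∨ v = D.F zaS)
    (hB : D.F zbS ∈ D.VC gb ∧ (∀ T ∈ listB, D.φ (el T) ∈ D.VC gb) ∧
      ∀ v ∈ D.V, v ∈ D.VC gb → v = 1 ∨ v = D.F zbS)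
    {d : G} (hd : d ∈ normalizer (D.V : Set G)) (hda : d ∈ D.VC ga) (hdb : d ∈ D.VC gb) :
    ∃ σ, (σ = 1 ∨ σ = el qaT ∨ σ = el qbT ∨ σ = el eT) ∧ D.φ σ = d := by
  obtain ⟨v, hv, σ, rfl⟩ := D.decomp hd
  have hcomm : ∀ T ∈ gensAB, Commute σ (el T) := by
    intro T hT
    have hc : Commute (v * D.φ σ) (D.φ (el T)) := by
      rcases List.mem_append.1 hT with h | h
      · exact VC_comm hda (hA.2.1 T (List.mem_append_left _ h))
      · exact VC_comm hdb (hB.2.1 T (List.mem_append_left _ h))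
    have hv' : D.φ (el T) * v * (D.φ (el T))⁻¹ ∈ D.V :=
      (mem_normalizer_iff.1 (D.φ_mem_normalizer _) v).1 hv
    refine (D.decomp_unique hv hv' (σ := σ * el T) (σ' := el T * σ) ?_).2
    rw [map_mul, map_mul]
    calc v * (D.φ σ * D.φ (el T)) = (v * D.φ σ) * D.φ (el T) := by group
      _ = D.φ (el T) * (v * D.φ σ) := hc.eq
      _ = _ := by group
  have hσ := centraliser_cases hcomm
  have hm : D.φ σ ∈ D.VC ga ∧ D.φ σ ∈ D.VC gb := by
    rcases hσ with rfl | rfl | rfl | rfl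
    · rw [map_one]; exact ⟨one_mem _, one_mem _⟩
    all_goals exact ⟨hA.2.1 _ (by simp [listA]), hB.2.1 _ (by simp [listB])⟩
  refine ⟨σ, hσ, ?_⟩
  have hva : v ∈ D.VC ga := by simpa using mul_mem hda (inv_mem hm.1)
  have hvb : v ∈ D.VC gb := by simpa using mul_mem hdb (inv_mem hm.2)
  rcases hA.2.2 v hv hva with rfl | e
  · rw [one_mul]
  · rcases hB.2.2 v hv hvb with rfl | e'
    · rw [one_mul]
    · exfalso
      have h := duads_check
      have := D.F_inj (isSext_ev h.2.2.2.2.1).1 (isSext_ev h.2.2.2.2.2.1).1 (e.symm.trans e')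
      simp [this] at h

theorem norm_of_core {a : ℕ} (ha : isSext a = true) {g y : G} (hg : Commute g (D.F a))
    (hy : y ∈ Cfsg.twoCoreOfCentralizer (D.F a)) : y ∈ normalizer (D.VC g : Set G) := by
  have h1 := core_le (D.F_mem a) ((D.F_isConj (isSext_ev ha).1).2 ha) (core_conj hg.inv_left hy)
  rw [inv_inv] at h1
  refine mem_normalizer_iff.2 fun w => ?_
  rw [D.mem_VC, D.mem_VC,
    show g⁻¹ * (y * w * y⁻¹) * g = g⁻¹ * y * g * (g⁻¹ * w * g) * (g⁻¹ * y * g)⁻¹ by group]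
  exact mem_normalizer_iff.1 h1 _

theorem mem_conj_move {t : G} (hI : IsTrioInv D.z D.V D.F D.φ t) {q : ℕ × ℕ} (hq : q ∈ uList) {g : G}
    {R U : ℕ} (hR : Val R) (hU : Val U) (hmove : mulOK R q.2 (tblMul U R) = true)
    (hm : D.φ (el U) ∈ D.VC g) : D.φ (el R) * t * (D.φ (el R))⁻¹ ∈ D.VC g := by
  have hQ : inM24 q.2 = true := gen_facts.2.2.2.1 q hq
  have h1 := tblMul_spec hU.1 hR.1
  have hUR : el U * el R = el (tblMul U R) := by
    refine Subtype.ext ?_
    rw [Subgroup.coe_mul, el_coe hU, el_coe hR, el_coe ⟨h1.1, h1.2 ▸ mul_mem hU.2 hR.2⟩, h1.2]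
  have hRQ : el R * el q.2 = el U * el R :=
    (el_mul hR (val_of hQ) ⟨h1.1, h1.2 ▸ mul_mem hU.2 hR.2⟩ hmove).trans hUR.symm
  have h := hI.mem q hq ((D.φ (el R))⁻¹ * g) (by
    rw [← el_eq_tPerm, H48.J4U.conjV_eq_VC, D.mem_VC]
    have h2 := D.mem_VC.1 hm
    rw [show el U = el R * el q.2 * (el R)⁻¹ by rw [hRQ, mul_inv_cancel_right],
      map_mul, map_mul, map_inv] at h2
    rw [show ((D.φ (el R))⁻¹ * g)⁻¹ * D.φ (el q.2) * ((D.φ (el R))⁻¹ * g) =
      g⁻¹ * (D.φ (el R) * D.φ (el q.2) * (D.φ (el R))⁻¹) * g by group]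
    exact h2)
  rw [H48.J4U.conjV_eq_VC] at h
  have := conj_mem_VC h
  rwa [inv_inv] at this

/-- **The local configuration of the second relator.** -/
theorem hyp_of_uni (hgood : ∀ σ : ↥Cfsg.M24, σ * σ = 1 → (∀ p, (σ : Equiv.Perm GolayPt) p ≠ p) →
      ¬ IsConj D.z (D.φ σ))
    {t : G} (hI : IsTrioInv D.z D.V D.F D.φ t) (hA : HexAt D zaS listA) (hB : HexAt D zbS listB)
    (ha1 : D.TT (D.F zaS * t)) (ha2 : D.TT (D.F zaS * t * tK D.φ t S0 u0K))
    (hb1 : D.TT (D.F zbS * tK D.φ t S0 u2K))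
    (hb2 : D.TT (D.F zbS * tK D.φ t S0 u2K * tK D.φ t S0 u0K))
    (hlb : tK D.φ t S0 u3K = tK D.φ t S0 u0K * tK D.φ t S0 u2K)
    (hld : tK D.φ t S0 udK = tK D.φ t S0 u0K * tK D.φ t S0 uaK)
    (hlc : tK D.φ t S0 ucK = t * tK D.φ t S0 uaK) :
    Hyp D.φ t (D.F zaS) (D.F zbS) := by
  have E := env_of_uni D hgood
  have ht : t * t = 1 := hI.isT.sq
  have ht1 : t ≠ 1 := hI.isT.ne_one
  have C := cen_of_trioStab (φ := D.φ) ht hI.stab
  obtain ⟨ga, hga, hFa, hLa, hVa⟩ := hA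
  obtain ⟨gb, hgb, hFb, hLb, hVb⟩ := hB
  obtain ⟨hdB, hdA, hda, hdb, hsa, hsb, -⟩ := duads_check
  have hcA : D.F zbS ∈ Cfsg.twoCoreOfCentralizer (D.F zaS) := by
    rw [beq_iff_eq.1 hdA]; exact F_core hsa hda
  have hcB : D.F zaS ∈ Cfsg.twoCoreOfCentralizer (D.F zbS) := by
    rw [beq_iff_eq.1 hdB]; exact F_core hsb hdb
  have hb : (D.φ (el bT))⁻¹ * t * D.φ (el bT) = tK D.φ t S0 u2K := by
    have h := tK_el (φ := D.φ) (t := t) C val_b u2K
    rw [show imgK bT u2K = k0 by decide +kernel, tK_base C] at h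
    calc (D.φ (el bT))⁻¹ * t * D.φ (el bT)
        = (D.φ (el bT))⁻¹ * (D.φ (el bT) * tK D.φ t S0 u2K * (D.φ (el bT))⁻¹) * D.φ (el bT) := by rw [h]
      _ = tK D.φ t S0 u2K := by group
  have hr : D.φ (el rep0T) * t * (D.φ (el rep0T))⁻¹ = tK D.φ t S0 u0K := by
    have h := tK_el (φ := D.φ) (t := t) C (val_of (T := rep0T) (by decide +kernel)) k0
    rwa [tK_base C, show imgK rep0T k0 = u0K by decide +kernel] at h
  have h0a : tK D.φ t S0 u0K ∈ D.VC ga := hr ▸ mem_conj_move hI q698_mem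
    (val_of (by decide +kernel)) (val_of (T := u0AT) (by decide +kernel)) (by decide +kernel)
    (hLa _ (by simp [listA]))
  have h0b : tK D.φ t S0 u0K ∈ D.VC gb := hr ▸ mem_conj_move hI
    (q := (1463, 420871937280519645355379355080342529)) (by simp [uList])
    (val_of (by decide +kernel)) (val_of (T := u0BT) (by decide +kernel)) (by decide +kernel)
    (hLb _ (by simp [listB]))
  have hta : t ∈ D.VC ga := hI.mem _ q3297_mem ga (by
    rw [← el_eq_tPerm, H48.J4U.conjV_eq_VC]; exact hLa _ (by simp [listA]))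
  have h0z : IsConj D.z (tK D.φ t S0 u0K) :=
    hr ▸ hI.conj_z.trans (isConj_iff.2 ⟨_, rfl⟩)
  have hta' : Commute t (D.F zaS) := hI.sext _ (by decide)
  have e1 : D.F zaS * t ∈ Cfsg.twoCoreOfCentralizer (tK D.φ t S0 u0K) :=
    mem_core_of_TT h0a h0z (mul_mem hFa hta) ha1 ha2
  have hba : Commute (tK D.φ t S0 u2K) (D.F zbS) := by
    rw [← hb]
    have h := hI.sext (lin (linGens bT) zbS) (by decide +kernel)
    rw [← (E.conj_lin bT (by decide +kernel) zbS (by decide +kernel)).2,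
      ← el_eq_tPerm] at h
    have := h.map (MulAut.conj (D.φ (el bT))⁻¹)
    simp only [MulAut.conj_apply, inv_inv] at this
    rwa [show (D.φ (el bT))⁻¹ * (D.φ (el bT) * D.F zbS * (D.φ (el bT))⁻¹) * D.φ (el bT) = D.F zbS by
      group] at this
  have h2b : tK D.φ t S0 u2K ∈ D.VC gb := by
    have hmv : el bT * el ubT = el 303934666482472510870088253164633089 * el bT := by
      have := el_word (l := [bT, ubT]) (l' := [303934666482472510870088253164633089, bT])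
        (by simp [val_b, val_of (T := ubT) (by decide +kernel)])
        (by simp [val_b, val_of (T := 303934666482472510870088253164633089) (by decide +kernel)])
        (by decide +kernel)
      simpa using this
    have h := hI.mem _ q698_mem (D.φ (el bT) * gb) (by
      rw [← el_eq_tPerm, H48.J4U.conjV_eq_VC, D.mem_VC]
      have h2 := D.mem_VC.1 (hLb ubT (by simp [listB]))
      rw [show el ubT = (el bT)⁻¹ * el 303934666482472510870088253164633089 * el bT by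
        rw [mul_assoc, ← hmv, inv_mul_cancel_left], map_mul, map_mul, map_inv] at h2
      simpa [mul_assoc] using h2)
    rw [H48.J4U.conjV_eq_VC] at h
    exact hb ▸ conj_mem_VC h
  have e2 : D.F zbS * tK D.φ t S0 u2K ∈ Cfsg.twoCoreOfCentralizer (tK D.φ t S0 u0K) :=
    mem_core_of_TT h0b h0z (mul_mem hFb h2b) hb1 hb2
  refine hyp_of_loc E ht ht1 hI.stab hI.mem hI.sext hI.centV ⟨⟨ga, gb,
    ⟨hFa, hLa _ (by simp [listA]), hLa _ (by simp [listA])⟩,
    ⟨hFb, hLb _ (by simp [listB]), hLb _ (by simp [listB])⟩,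
    norm_of_core hsa hga hcA, norm_of_core hsb hgb hcB,
    fun d hd hda hdb => pair_cases ⟨hFa, hLa, hVa⟩ ⟨hFb, hLb, hVb⟩ hd hda hdb⟩, ?_, ?_, ?_,
    VC_comm h0a hta, hlb, hld, hlc⟩
  · have h := core_le (D.F_mem zaS) ((D.F_isConj (isSext_ev hsa).1).2 hsa)
      (mul_mem (core_conj hta' hcA) hcA)
    rwa [inv_eq_self_of_mul ht] at h
  · have h2 : D.F zaS * tK D.φ t S0 u2K * D.F zaS * tK D.φ t S0 u2K =
        D.F zaS * (tK D.φ t S0 u2K * D.F zaS * (tK D.φ t S0 u2K)⁻¹) := by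
      have ht2 : (tK D.φ t S0 u2K)⁻¹ = tK D.φ t S0 u2K := inv_eq_self_of_mul (tau_sq C _)
      rw [ht2]; group
    rw [h2]
    exact core_le (D.F_mem zbS) ((D.F_isConj (isSext_ev hsb).1).2 hsb)
      (mul_mem hcB (core_conj hba hcB))
  · have hc := core_comm D.h.hc D.S.hE h0z e1 e2
    rwa [inv_eq_self_of_mul ha1.1, inv_eq_self_of_mul hb1.1, mul_assoc _ (D.F zaS * t)] at hc

/-- **The second long relator** in the standing data. -/
theorem relTwo_uni (hgood : ∀ σ : ↥Cfsg.M24, σ * σ = 1 → (∀ p, (σ : Equiv.Perm GolayPt) p ≠ p) →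
      ¬ IsConj D.z (D.φ σ))
    {t : G} (hI : IsTrioInv D.z D.V D.F D.φ t) (hA : HexAt D zaS listA) (hB : HexAt D zbS listB)
    (ha1 : D.TT (D.F zaS * t)) (ha2 : D.TT (D.F zaS * t * tK D.φ t S0 u0K))
    (hb1 : D.TT (D.F zbS * tK D.φ t S0 u2K))
    (hb2 : D.TT (D.F zbS * tK D.φ t S0 u2K * tK D.φ t S0 u0K))
    (hlb : tK D.φ t S0 u3K = tK D.φ t S0 u0K * tK D.φ t S0 u2K)
    (hld : tK D.φ t S0 udK = tK D.φ t S0 u0K * tK D.φ t S0 uaK)
    (hlc : tK D.φ t S0 ucK = t * tK D.φ t S0 uaK) :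
    ((D.φ gY * D.φ gX * D.φ gY * D.φ gX * D.φ gY * D.φ gX * D.φ gY) ^ 3 * t *
      (((D.φ gX * D.φ gY) ^ 3 * D.φ gY * (D.φ gX * D.φ gY) ^ 6 * D.φ gY)⁻¹ * t *
        ((D.φ gX * D.φ gY) ^ 3 * D.φ gY * (D.φ gX * D.φ gY) ^ 6 * D.φ gY))) ^ 2 = 1 :=
  (hyp_of_uni hgood hI hA hB ha1 ha2 hb1 hb2 hlb hld hlc).relTwo_word

end Cfsg.Agent.H56.J4U
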